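import Groth.Agent.NegTwistAss.Stalk
import Groth.Agent.Omega.Stalks
import Groth.Prelude.Def_Formal

/-!
Homogeneous polynomials in two sections, acting on twists: computation on stalks.
-/

universe u

open CategoryTheory AlgebraicGeometry IsLocalRing TopologicalSpace Opposite
open Groth.Agent.PullStalk.Sky Groth.Agent.KFlat.StalkTensor Groth.Agent.Props.GenLocus

noncomputable section

namespace Groth.Agent.NegTwistAss

set_option maxHeartbeats 400000

variable {X : Scheme.{u}} {A B : X.Modules}

lemma hom_ext_stk {φ ψ : A ⟶ B} (h : ∀ z t, stk φ z t = stk ψ z t) : φ = ψ := by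
  refine Omega.Stalks.hom_ext_stalk fun z ↦ LinearMap.ext fun t ↦ ?_
  exact h z t

lemma stk_add (φ ψ : A ⟶ B) (z : X) (t : A.presheaf.stalk z) :
    stk (φ + ψ) z t = stk φ z t + stk ψ z t := by
  obtain ⟨U, hz, m, rfl⟩ := exists_germM_eq A z t
  rw [stk_germ, stk_germ, stk_germ]
  exact map_add (B.presheaf.germ U z hz).hom _ _

lemma stk_zero (z : X) (t : A.presheaf.stalk z) : stk (0 : A ⟶ B) z t = 0 := by
  obtain ⟨U, hz, m, rfl⟩ := exists_germM_eq A z t
  rw [stk_germ]
  exact map_zero (B.presheaf.germ U z hz).hom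

lemma stk_comp_apply {C : X.Modules} (φ : A ⟶ B) (ψ : B ⟶ C) (z : X) (t : A.presheaf.stalk z) :
    stk (φ ≫ ψ) z t = stk ψ z (stk φ z t) := LinearMap.congr_fun (stk_comp φ ψ z) t

lemma stk_id (z : X) (t : A.presheaf.stalk z) : stk (𝟙 A) z t = t := by
  rw [stk, CategoryTheory.Functor.map_id]; rfl

lemma stk_whisk_apply (G : X.Modules) (φ : A ⟶ B) (z : X) (g : G.presheaf.stalk z)
    (a : A.presheaf.stalk z) :
    stk (whisk G φ) z (fromTensor G A z (g ⊗ₜ a)) = fromTensor G B z (g ⊗ₜ stk φ z a) := by
  apply (stalkTensorEquiv G B z).injective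
  refine (LinearMap.congr_fun (stk_whisk G φ z) _).trans ?_
  refine (congrArg ((stk φ z).lTensor _) ((stalkTensorEquiv G A z).apply_symm_apply (g ⊗ₜ a))).trans ?_
  exact ((stalkTensorEquiv G B z).apply_symm_apply (g ⊗ₜ stk φ z a)).symm

/-- Tensoring on the right with `P`. -/
def rmap (P : X.Modules) (φ : A ⟶ B) : CohB1.tensorMod A P ⟶ CohB1.tensorMod B P :=
  tensMap φ (𝟙 P)

lemma stk_rmap (P : X.Modules) (φ : A ⟶ B) (z : X) (g : A.presheaf.stalk z)
    (p : P.presheaf.stalk z) :
    stk (rmap P φ) z (fromTensor A P z (g ⊗ₜ p)) = fromTensor B P z (stk φ z g ⊗ₜ p) := by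
  apply (stalkTensorEquiv B P z).injective
  refine (LinearMap.congr_fun (stalkTensor_natural z φ (𝟙 P)) _).trans ?_
  refine (congrArg (TensorProduct.map _ _) ((stalkTensorEquiv A P z).apply_symm_apply (g ⊗ₜ p))).trans ?_
  rw [TensorProduct.map_tmul, CategoryTheory.Functor.map_id]
  exact ((stalkTensorEquiv B P z).apply_symm_apply (stk φ z g ⊗ₜ p)).symm

variable {P Q : X.Modules}

/-- The coefficient of a form at a chosen element. -/
def coef (α : P ⟶ Coh.structureModule X) {z : X} (π : P.presheaf.stalk z) : X.presheaf.stalk z :=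
  (HomShEval.Reflexive.structureStalkEquiv z).symm (stk α z π)

variable {z : X}

/-- `g ↦ g ⊗ π`. -/
def tp (π : P.presheaf.stalk z) (G : X.Modules) (g : G.presheaf.stalk z) :
    (CohB1.tensorMod G P).presheaf.stalk z :=
  fromTensor G P z (g ⊗ₜ π)

theorem tp_bijective {π : P.presheaf.stalk z}
    (hπ : Function.Bijective fun r : X.presheaf.stalk z ↦ r • π) (G : X.Modules) :
    Function.Bijective (tp π G) := by
  let eP : X.presheaf.stalk z ≃ₗ[X.presheaf.stalk z] P.presheaf.stalk z :=
    LinearEquiv.ofBijective (LinearMap.toSpanSingleton _ _ π) hπ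
  let e := ((TensorProduct.rid _ _).symm.trans
    (TensorProduct.congr (LinearEquiv.refl _ (G.presheaf.stalk z)) eP)).trans
      (stalkTensorEquiv G P z).symm
  have : tp π G = e := funext fun g ↦ by
    show fromTensor G P z (g ⊗ₜ π) = fromTensor G P z (g ⊗ₜ ((1 : X.presheaf.stalk z) • π))
    rw [one_smul]
  rw [this]
  exact e.bijective

lemma tp_smul (π : P.presheaf.stalk z) (G : X.Modules) (r : X.presheaf.stalk z)
    (g : G.presheaf.stalk z) : tp π G (r • g) = r • tp π G g := by
  rw [tp, tp, ← TensorProduct.smul_tmul']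
  exact map_smul (fromTensor G P z) r (g ⊗ₜ π)

variable (ε : CohB1.tensorMod P Q ≅ Coh.structureModule X) (σ : Coh.structureModule X ⟶ Q)

theorem stk_mult (π : P.presheaf.stalk z) (G : X.Modules) (g : G.presheaf.stalk z) :
    stk (mult ε σ G) z (tp π G g) = coef (form ε σ) π • g := by
  rw [mult, stk_comp, LinearMap.comp_apply, tp, stk_whisk_apply]
  have h : stk (form ε σ) z π = coef (form ε σ) π • HomShEval.Reflexive.oneGerm z :=
    ((HomShEval.Reflexive.structureStalkEquiv z).apply_symm_apply _).symm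
  rw [h, TensorProduct.tmul_smul, map_smul]
  refine (map_smul (stk (oneR G) z) _ _).trans ?_
  exact congrArg (coef (form ε σ) π • ·) (stk_oneR G z g)

/-- `g ↦ g ⊗ π ⊗ ⋯ ⊗ π`. -/
def emb (π : P.presheaf.stalk z) (G : X.Modules) :
    (i : ℕ) → G.presheaf.stalk z → (twPow P G i).presheaf.stalk z
  | 0, g => g
  | i + 1, g => tp π (twPow P G i) (emb π G i g)

theorem emb_bijective {π : P.presheaf.stalk z}
    (hπ : Function.Bijective fun r : X.presheaf.stalk z ↦ r • π) (G : X.Modules) :
    ∀ i, Function.Bijective (emb π G i)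
  | 0 => Function.bijective_id
  | i + 1 => (tp_bijective hπ (twPow P G i)).comp (emb_bijective hπ G i)

lemma emb_smul (π : P.presheaf.stalk z) (G : X.Modules) :
    ∀ (i : ℕ) (r : X.presheaf.stalk z) (g : G.presheaf.stalk z),
      emb π G i (r • g) = r • emb π G i g
  | 0, _, _ => rfl
  | i + 1, r, g => by
    show tp π _ (emb π G i (r • g)) = r • tp π _ (emb π G i g)
    rw [emb_smul π G i, tp_smul]

theorem stk_multPow (π : P.presheaf.stalk z) (G : X.Modules) :
    ∀ (i : ℕ) (g : G.presheaf.stalk z),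
      stk (multPow ε σ G i) z (emb π G i g) = coef (form ε σ) π ^ i • g
  | 0, g => by rw [pow_zero, one_smul]; exact stk_id z g
  | i + 1, g => by
    show stk (mult ε σ (twPow P G i) ≫ multPow ε σ G i) z (tp π _ (emb π G i g)) = _
    rw [stk_comp, LinearMap.comp_apply, stk_mult, map_smul, stk_multPow π G i g, smul_smul, pow_succ']

/-- `(G ⊗ P) ⊗ P^i → (G ⊗ P^i) ⊗ P`. -/
def shift (G : X.Modules) : (i : ℕ) →
    (twPow P (CohB1.tensorMod G P) i ⟶ CohB1.tensorMod (twPow P G i) P)
  | 0 => 𝟙 _
  | i + 1 => rmap P (shift G i)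

theorem stk_shift (π : P.presheaf.stalk z) (G : X.Modules) :
    ∀ (i : ℕ) (g : G.presheaf.stalk z),
      stk (shift G i) z (emb π (CohB1.tensorMod G P) i (tp π G g)) = tp π _ (emb π G i g)
  | 0, g => stk_id z _
  | i + 1, g => by
    show stk (rmap P (shift G i)) z (tp π _ (emb π _ i (tp π G g))) = _
    rw [tp, stk_rmap, stk_shift π G i g]
    rfl

theorem shift_isIso (hP : PicF.IsInvertible P) (G : X.Modules) (i : ℕ) : IsIso (shift (P := P) G i) := by
  refine Omega.Stalks.isIso_of_stalk fun z ↦ ?_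
  obtain ⟨W, e, hzW, he⟩ := exists_isGen hP z
  let π := germM P W z hzW e
  have hπ := gen_bijective he z hzW
  have hb : Function.Bijective (stk (shift (P := P) G i) z ∘
      (emb π (CohB1.tensorMod G P) i ∘ tp π G)) := by
    rw [show stk (shift (P := P) G i) z ∘ (emb π (CohB1.tensorMod G P) i ∘ tp π G) =
      tp π _ ∘ emb π G i from funext fun g ↦ stk_shift π G i g]
    exact (tp_bijective hπ _).comp (emb_bijective hπ G i)
  exact (Function.Bijective.of_comp_iff _
    ((emb_bijective hπ _ i).comp (tp_bijective hπ G))).mp hb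

section Poly

variable {k : Type u} [Field k] [X.Over (Spec (CommRingCat.of k))]

/-- The constant function `c` at a point. -/
def cst (c : k) (z : X) : X.presheaf.stalk z :=
  X.presheaf.germ ⊤ z trivial (Coh.toGlobal (X ↘ Spec (CommRingCat.of k)) c)

theorem stk_smulMod (G : X.Modules) (c : k) (g : G.presheaf.stalk z) :
    stk (Formal.smulMod k G c) z g = cst c z • g := by
  obtain ⟨U, hz, m, rfl⟩ := exists_germM_eq G z g
  rw [stk_germ]
  show germM G U z hz ((show Γ(X, U) from Coh.resTop X (op U)
    (Coh.toGlobal (X ↘ Spec (CommRingCat.of k)) c)) • m) = _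
  rw [germM_smul]
  congr 1
  exact X.presheaf.germ_res_apply (homOfLE le_top) z hz _

variable (τ : Coh.structureModule X ⟶ Q)

/-- A homogeneous polynomial in `σ` and `τ`, given by its coefficients. -/
def poly : (l : List k) → (G : X.Modules) → (twPow P G l.length ⟶ G)
  | [], _ => 0
  | c :: l, G =>
      (show twPow P G (l.length + 1) ⟶ G from mult ε τ (twPow P G l.length) ≫ poly l G) +
      (multPow ε σ G (l.length + 1) ≫ Formal.smulMod k G c)

/-- Its value at `(a, b)`. -/
def value : List k → X.presheaf.stalk z → X.presheaf.stalk z → X.presheaf.stalk z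
  | [], _, _ => 0
  | c :: l, a, b => b * value l a b + cst c z * a ^ (l.length + 1)

theorem stk_poly (π : P.presheaf.stalk z) (G : X.Modules) :
    ∀ (l : List k) (g : G.presheaf.stalk z), stk (poly ε σ τ l G) z (emb π G l.length g) =
      value l (coef (form ε σ) π) (coef (form ε τ) π) • g
  | [], g => by
    rw [value, zero_smul]
    exact stk_zero z _
  | c :: l, g => by
    show stk ((show twPow P G (l.length + 1) ⟶ G from
        mult ε τ (twPow P G l.length) ≫ poly ε σ τ l G) +
      (multPow ε σ G (l.length + 1) ≫ Formal.smulMod k G c)) z (emb π G (l.length + 1) g) = _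
    rw [stk_add, stk_comp, stk_comp, LinearMap.comp_apply, LinearMap.comp_apply, stk_multPow]
    refine (congrArg₂ (· + ·)
      ((congrArg (stk (poly ε σ τ l G) z) (stk_mult ε τ π (twPow P G l.length) (emb π G l.length g))).trans
        ((map_smul (stk (poly ε σ τ l G) z) _ _).trans
          ((congrArg (coef (form ε τ) π • ·) (stk_poly π G l g)).trans (smul_smul _ _ _))))
      ((stk_smulMod G c _).trans (smul_smul _ _ _))).trans ?_
    exact (add_smul _ _ g).symm

/-- The polynomial commutes with the twist. -/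
theorem poly_twist (hP : PicF.IsInvertible P) (l : List k) (G : X.Modules) :
    poly ε σ τ l (CohB1.tensorMod G P) = shift G l.length ≫ rmap P (poly ε σ τ l G) := by
  refine hom_ext_stk fun z t ↦ ?_
  obtain ⟨W, e, hzW, he⟩ := exists_isGen hP z
  let π := germM P W z hzW e
  have hπ := gen_bijective he z hzW
  obtain ⟨g', rfl⟩ := (emb_bijective hπ (CohB1.tensorMod G P) l.length).2 t
  obtain ⟨g, rfl⟩ := (tp_bijective hπ G).2 g'
  rw [stk_poly, stk_comp, LinearMap.comp_apply, stk_shift, tp, tp, stk_rmap, stk_poly,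
    ← TensorProduct.smul_tmul']
  exact (map_smul (fromTensor G P z) _ _).symm

/-- `multPow (i+1)` factors through `mult` at the bottom. -/
theorem multPow_factor (hP : PicF.IsInvertible P) (G : X.Modules) (i : ℕ) :
    (multPow ε σ G (i + 1) = rmap P (multPow ε σ G i) ≫ mult ε σ G) ∧
    (mult ε τ (twPow P G i) ≫ multPow ε σ G i = rmap P (multPow ε σ G i) ≫ mult ε τ G) := by
  constructor
  · refine hom_ext_stk fun z t ↦ ?_
    obtain ⟨W, e, hzW, he⟩ := exists_isGen hP z
    let π := germM P W z hzW e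
    have hπ := gen_bijective he z hzW
    obtain ⟨g, rfl⟩ := (emb_bijective hπ G (i + 1)).2 t
    have e1 : stk (rmap P (multPow ε σ G i)) z (emb π G (i + 1) g) =
        tp π G (coef (form ε σ) π ^ i • g) :=
      (stk_rmap P _ z _ π).trans (congrArg (tp π G) (stk_multPow ε σ π G i g))
    have e2 : stk (rmap P (multPow ε σ G i) ≫ mult ε σ G) z (emb π G (i + 1) g) =
        (coef (form ε σ) π * coef (form ε σ) π ^ i) • g := by
      erw [stk_comp_apply, e1, stk_mult ε σ π G]
      exact smul_smul _ _ g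
    refine Eq.trans ?_ e2.symm
    exact (stk_multPow ε σ π G (i + 1) g).trans (congrArg (· • g) (pow_succ' _ _))
  · refine hom_ext_stk fun z t ↦ ?_
    obtain ⟨W, e, hzW, he⟩ := exists_isGen hP z
    let π := germM P W z hzW e
    have hπ := gen_bijective he z hzW
    obtain ⟨g, rfl⟩ := (emb_bijective hπ G (i + 1)).2 t
    have e1 : stk (rmap P (multPow ε σ G i)) z (emb π G (i + 1) g) =
        tp π G (coef (form ε σ) π ^ i • g) :=
      (stk_rmap P _ z _ π).trans (congrArg (tp π G) (stk_multPow ε σ π G i g))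
    have e2 : stk (rmap P (multPow ε σ G i) ≫ mult ε τ G) z (emb π G (i + 1) g) =
        (coef (form ε τ) π * coef (form ε σ) π ^ i) • g := by
      erw [stk_comp_apply, e1, stk_mult ε τ π G]
      exact smul_smul _ _ g
    refine Eq.trans ?_ e2.symm
    erw [stk_comp_apply, stk_mult ε τ π (twPow P G i) (emb π G i g)]
    refine (map_smul (stk (multPow ε σ G i) z) _ _).trans ?_
    rw [stk_multPow, smul_smul]

end Poly

end Groth.Agent.NegTwistAss
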