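import Groth.Agent.KFlat.StalkFlat
import Groth.Agent.HomShEval.Reflexive
import Groth.Agent.Props.GenLocus

/-!
The unit map `G ⊗ O → G` on stalks.
-/

universe u

open CategoryTheory AlgebraicGeometry MonoidalCategory Opposite TopologicalSpace
open Groth.Agent.PullStalk.Sky Groth.Agent.KFlat.StalkTensor Groth.Agent.Props.GenLocus

noncomputable section

namespace Groth.Agent.NegTwistAss

variable {X : Scheme.{u}}

set_option maxHeartbeats 400000

/-- `G ⊗ O → G`. -/
def oneR (G : X.Modules) : tensM G (Coh.structureModule X) ⟶ G :=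
  ((KFlat.preAdj X.sheaf).homEquiv (tensP G (Coh.structureModule X)) G).symm
    (ρ_ ((ModSite.toPre X.sheaf).obj G)).hom

lemma oneR_app (G : X.Modules) (U : X.Opens) (m : Γ(G, U)) :
    (oneR G).app U (tmulSec U m (one' U)) = m := by
  have h := ((KFlat.preAdj X.sheaf).homEquiv (tensP G (Coh.structureModule X)) G).apply_symm_apply
    (ρ_ ((ModSite.toPre X.sheaf).obj G)).hom
  rw [Adjunction.homEquiv_unit] at h
  refine (congrArg (fun φ => (show Γ(G, U) from PresheafOfModules.Hom.app φ (op U)
      ((show ((ModSite.toPre X.sheaf).obj G).obj (op U) from m) ⊗ₜ[X.sheaf.obj.obj (op U)]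
        (show ((ModSite.toPre X.sheaf).obj (Coh.structureModule X)).obj (op U) from one' U)))) h).trans ?_
  exact one_smul Γ(X, U) m

lemma oneGerm_eq (U : X.Opens) (x : X) (hx : x ∈ U) :
    HomShEval.Reflexive.oneGerm x = germM (Coh.structureModule X) U x hx (one' U) := by
  have h2 : (Coh.structureModule X).presheaf.map (homOfLE (le_top : U ≤ ⊤)).op
      (show Γ(Coh.structureModule X, ⊤) from (1 : Γ(X, ⊤))) = one' U :=
    (X.presheaf.map (homOfLE (le_top : U ≤ ⊤)).op).hom.map_one
  rw [← h2]
  exact ((Coh.structureModule X).presheaf.germ_res_apply (homOfLE le_top) x hx _).symm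

theorem stk_oneR (G : X.Modules) (x : X) (g : G.presheaf.stalk x) :
    ((DerSch.stalkFunctor X x).map (oneR G)).hom (fromTensor G (Coh.structureModule X) x
      (g ⊗ₜ HomShEval.Reflexive.oneGerm x)) = g := by
  obtain ⟨U, hx, m, rfl⟩ := exists_germM_eq G x g
  rw [oneGerm_eq U x hx, fromTensor_germ]
  exact (DerSch.stalkFunctor_map_germ x (oneR G) U hx (tmulSec U m (one' U))).trans
    (congrArg _ (oneR_app G U m))

theorem bijective_oneR (G : X.Modules) (x : X) :
    Function.Bijective ((DerSch.stalkFunctor X x).map (oneR G)).hom := by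
  let e : G.presheaf.stalk x ≃ₗ[X.presheaf.stalk x] (tensM G (Coh.structureModule X)).presheaf.stalk x :=
    ((TensorProduct.rid _ _).symm.trans (TensorProduct.congr (LinearEquiv.refl _ _)
      (HomShEval.Reflexive.structureStalkEquiv x))).trans (stalkTensorEquiv G _ x).symm
  have h : ((DerSch.stalkFunctor X x).map (oneR G)).hom ∘ e = id := by
    funext g
    refine Eq.trans ?_ (stk_oneR G x g)
    refine congrArg ((DerSch.stalkFunctor X x).map (oneR G)).hom ?_
    show fromTensor G _ x (g ⊗ₜ ((1 : X.presheaf.stalk x) • HomShEval.Reflexive.oneGerm x)) = _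
    rw [one_smul]
  exact (Function.Bijective.of_comp_iff _ e.bijective).mp (h ▸ Function.bijective_id)

end Groth.Agent.NegTwistAss
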