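import Groth.Agent.AssSch.Basic
import Groth.Agent.KFlat.StalkFlat
import Groth.Agent.NegTwistAss.One
import Groth.Agent.AmpCrit.NegVan
import Groth.Agent.HomShEval.Reflexive
import Groth.Agent.ProjTwist.Tensor

/-!
Multiplication by a section of an invertible module, on stalks.
-/

universe u

open CategoryTheory AlgebraicGeometry IsLocalRing TopologicalSpace Opposite
open Groth.Agent.PullStalk.Sky Groth.Agent.KFlat.StalkTensor
open Groth.Agent.Props.GenLocus Groth.Agent.QCoh Groth.Agent.AmpleLib

noncomputable section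

namespace Groth.Agent.NegTwistAss

variable {X : Scheme.{u}} {A B C : X.Modules}

/-- The map on stalks. -/
abbrev stk (φ : A ⟶ B) (z : X) : A.presheaf.stalk z →ₗ[X.presheaf.stalk z] B.presheaf.stalk z :=
  ((DerSch.stalkFunctor X z).map φ).hom

lemma stk_germ (φ : A ⟶ B) (U : X.Opens) (z : X) (hz : z ∈ U) (m : Γ(A, U)) :
    stk φ z (germM A U z hz m) = germM B U z hz (φ.app U m) :=
  DerSch.stalkFunctor_map_germ z φ U hz m

lemma stk_comp (φ : A ⟶ B) (ψ : B ⟶ C) (z : X) : stk (φ ≫ ψ) z = (stk ψ z).comp (stk φ z) := by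
  rw [stk, Functor.map_comp]; rfl

lemma stk_bijective_of_iso (e : A ≅ B) (z : X) : Function.Bijective (stk e.hom z) :=
  ((DerSch.stalkFunctor X z).mapIso e).toLinearEquiv.bijective

/-- `Small φ z`: the image of `φ` at `z` lies in `m_z B_z`. -/
def Small (φ : A ⟶ B) (z : X) : Prop :=
  LinearMap.range (stk φ z) ≤
    maximalIdeal (X.presheaf.stalk z) • (⊤ : Submodule (X.presheaf.stalk z) (B.presheaf.stalk z))

lemma Small.comp_right {φ : A ⟶ B} {z : X} (h : Small φ z) (ψ : B ⟶ C) : Small (φ ≫ ψ) z := by
  rw [Small, stk_comp, LinearMap.range_comp]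
  refine (Submodule.map_mono h).trans ?_
  rw [Submodule.map_smul'']
  exact Submodule.smul_mono le_rfl le_top

lemma Small.comp_left {φ : B ⟶ C} {z : X} (h : Small φ z) (ψ : A ⟶ B) : Small (ψ ≫ φ) z := by
  rw [Small, stk_comp]
  exact (LinearMap.range_comp_le_range _ _).trans h

/-- Tensoring a morphism on the left. -/
def whisk (G : X.Modules) (φ : A ⟶ B) : CohB1.tensorMod G A ⟶ CohB1.tensorMod G B :=
  KFlat.StalkTensor.tensMap (𝟙 G) φ

lemma stk_whisk (G : X.Modules) (φ : A ⟶ B) (z : X) :
    (stalkTensorEquiv G B z).toLinearMap.comp (stk (whisk G φ) z) =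
      (LinearMap.lTensor (G.presheaf.stalk z) (stk φ z)).comp (stalkTensorEquiv G A z).toLinearMap := by
  have h := KFlat.StalkTensor.stalkTensor_natural z (𝟙 G) φ
  rw [CategoryTheory.Functor.map_id] at h
  exact h

lemma whisk_bijective (G : X.Modules) {φ : A ⟶ B} {z : X} (h : Function.Bijective (stk φ z)) :
    Function.Bijective (stk (whisk G φ) z) := by
  have he : (stk φ z).lTensor (G.presheaf.stalk z) =
      (LinearEquiv.lTensor (G.presheaf.stalk z) (LinearEquiv.ofBijective (stk φ z) h)).toLinearMap := rfl
  have hb : Function.Bijective (((stalkTensorEquiv G B z).toLinearMap.comp (stk (whisk G φ) z))) := by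
    rw [stk_whisk, he]
    exact (LinearEquiv.lTensor (G.presheaf.stalk z) (LinearEquiv.ofBijective (stk φ z) h)).bijective.comp (stalkTensorEquiv G A z).bijective
  exact (Function.Bijective.of_comp_iff' (stalkTensorEquiv G B z).bijective _).mp hb

lemma whisk_small (G : X.Modules) {φ : A ⟶ B} {z : X} (h : Small φ z) : Small (whisk G φ) z := by
  rintro _ ⟨t, rfl⟩
  obtain ⟨t, rfl⟩ := (stalkTensorEquiv G A z).symm.surjective t
  have key : stalkTensorEquiv G B z (stk (whisk G φ) z ((stalkTensorEquiv G A z).symm t)) =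
      (stk φ z).lTensor (G.presheaf.stalk z) t :=
    (LinearMap.congr_fun (stk_whisk G φ z) ((stalkTensorEquiv G A z).symm t)).trans
      (congrArg _ (LinearEquiv.apply_symm_apply _ t))
  have hmem : ∀ t, (stk φ z).lTensor (G.presheaf.stalk z) t ∈ maximalIdeal (X.presheaf.stalk z) •
      (⊤ : Submodule (X.presheaf.stalk z) _) := by
    intro t
    induction t using TensorProduct.induction_on with
    | zero => simp
    | add a b ha hb => rw [map_add]; exact add_mem ha hb
    | tmul g a =>
      rw [LinearMap.lTensor_tmul]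
      refine Submodule.smul_induction_on (h ⟨a, rfl⟩) (fun r hr b _ ↦ ?_) fun b b' hb hb' ↦ ?_
      · rw [TensorProduct.tmul_smul]
        exact Submodule.smul_mem_smul hr trivial
      · rw [TensorProduct.tmul_add]; exact add_mem hb hb'
  have h' := Submodule.mem_map_of_mem (f := (stalkTensorEquiv G B z).symm.toLinearMap) (hmem t)
  rw [← key, Submodule.map_smul''] at h'
  simp only [LinearEquiv.coe_coe, LinearEquiv.symm_apply_apply] at h'
  exact Submodule.smul_mono le_rfl le_top h'

/-- The stalk of an invertible module at a point of a trivializing open. -/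
lemma gen_bijective {L : X.Modules} {W : X.Opens} {e : Γ(L, W)} (he : IsGen L W e) (z : X)
    (hz : z ∈ W) :
    Function.Bijective fun r : X.presheaf.stalk z ↦ r • germM L W z hz e := by
  have h := ((isGen_iff_isFrame e).mp he).stalkComb_bijective z hz
  have : (fun r : X.presheaf.stalk z ↦ r • germM L W z hz e) =
      LFFrame.stalkComb L (fun _ : Fin 1 ↦ e) z hz ∘ (Equiv.funUnique (Fin 1) _).symm := by
    funext r
    simp [LFFrame.stalkComb, Fintype.linearCombination_apply]
  rw [this]
  exact h.comp (Equiv.bijective _)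

variable {L : X.Modules} (s : Coh.structureModule X ⟶ L) (z : X)

lemma stk_section (U : X.Opens) (hz : z ∈ U) (r : X.presheaf.stalk z) :
    stk s z (HomShEval.Reflexive.structureStalkEquiv z r) = r • germM L U z hz (sec s U) := by
  have h1 : HomShEval.Reflexive.structureStalkEquiv z r =
      r • germM (Coh.structureModule X) U z hz (one' U) := by
    show r • HomShEval.Reflexive.oneGerm z = _
    congr 1
    have h2 : (Coh.structureModule X).presheaf.map (homOfLE (le_top : U ≤ ⊤)).op
        (show Γ(Coh.structureModule X, ⊤) from (1 : Γ(X, ⊤))) = one' U :=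
      (X.presheaf.map (homOfLE (le_top : U ≤ ⊤)).op).hom.map_one
    rw [← h2]
    exact ((Coh.structureModule X).presheaf.germ_res_apply (homOfLE le_top) z hz _).symm
  rw [h1, map_smul, stk_germ]
  rfl

theorem section_bijective (hz : z ∈ CohB1.genLocus L s) : Function.Bijective (stk s z) := by
  have h := gen_bijective (isGen_genLocus s) z hz
  have : (fun r : X.presheaf.stalk z ↦ r • germM L _ z hz (sec s (CohB1.genLocus L s))) =
      stk s z ∘ HomShEval.Reflexive.structureStalkEquiv z := funext fun r ↦ (stk_section s z _ hz r).symm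
  rw [this] at h
  exact (Function.Bijective.of_comp_iff _ (HomShEval.Reflexive.structureStalkEquiv z).bijective).mp h

theorem section_small (hL : PicF.IsInvertible L) (hz : z ∉ CohB1.genLocus L s) : Small s z := by
  obtain ⟨W, e, hzW, he⟩ := exists_isGen hL z
  obtain ⟨c, hc, -⟩ := he.exists_eq le_rfl (sec s W)
  have hloc := locus_inf (σ := sec s ⊤) le_top he (f := c)
    (by rw [sec_res, hc, res_self])
  have hcm : X.presheaf.germ W z hzW c ∈ maximalIdeal (X.presheaf.stalk z) := by
    intro hu
    refine hz ?_
    rw [genLocus_eq_locus]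
    exact ((SetLike.ext_iff.mp hloc z).mpr ((X.mem_basicOpen c z hzW).mpr hu)).1
  rintro _ ⟨t, rfl⟩
  obtain ⟨r, rfl⟩ := (HomShEval.Reflexive.structureStalkEquiv z).surjective t
  rw [stk_section s z W hzW, hc, germM_smul, smul_smul]
  exact Submodule.smul_mem_smul (Ideal.mul_mem_left _ r hcm) trivial

/-- A module tensored with an invertible module has the same stalks. -/
theorem nonempty_stalk_tensor (F : X.Modules) {N : X.Modules} (hN : PicF.IsInvertible N) :
    Nonempty ((CohB1.tensorMod F N).presheaf.stalk z ≃ₗ[X.presheaf.stalk z] F.presheaf.stalk z) := by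
  obtain ⟨W, e, hzW, he⟩ := exists_isGen hN z
  exact ⟨(stalkTensorEquiv F N z).trans
    ((TensorProduct.congr (LinearEquiv.refl _ _)
      (LinearEquiv.ofBijective (LinearMap.toSpanSingleton _ _ (germM N W z hzW e))
        (gen_bijective he z hzW)).symm).trans (TensorProduct.rid _ _))⟩

section Mult

variable {P Q : X.Modules} (ε : CohB1.tensorMod P Q ≅ Coh.structureModule X)
  (σ : Coh.structureModule X ⟶ Q)

/-- The form on `P` given by a section of its inverse. -/
def form : P ⟶ Coh.structureModule X :=
  (ProjTwist.tensOne P).inv ≫ whisk P σ ≫ ε.hom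

/-- Multiplication by the section. -/
def mult (G : X.Modules) : CohB1.tensorMod G P ⟶ G :=
  whisk G (form ε σ) ≫ oneR G

variable (P) in
/-- `F ⊗ P ⊗ ⋯ ⊗ P`. -/
def twPow (F : X.Modules) : ℕ → X.Modules
  | 0 => F
  | j + 1 => CohB1.tensorMod (twPow F j) P

/-- Multiplication by powers of the section. -/
def multPow (F : X.Modules) : (j : ℕ) → (twPow P F j ⟶ F)
  | 0 => 𝟙 F
  | j + 1 => mult ε σ (twPow P F j) ≫ multPow F j

theorem mult_bijective (G : X.Modules) (hz : z ∈ CohB1.genLocus Q σ) :
    Function.Bijective (stk (mult ε σ G) z) := by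
  have hf : Function.Bijective (stk (form ε σ) z) := by
    rw [form, stk_comp, stk_comp]
    exact ((stk_bijective_of_iso ε z).comp (whisk_bijective P (section_bijective σ z hz))).comp
      (stk_bijective_of_iso (ProjTwist.tensOne P).symm z)
  rw [mult, stk_comp]
  exact (bijective_oneR G z).comp (whisk_bijective G hf)

theorem mult_small (hQ : PicF.IsInvertible Q) (G : X.Modules) (hz : z ∉ CohB1.genLocus Q σ) :
    Small (mult ε σ G) z :=
  (whisk_small G (((whisk_small P (section_small σ z hQ hz)).comp_right ε.hom).comp_left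
    (ProjTwist.tensOne P).inv)).comp_right _

theorem multPow_bijective (F : X.Modules) (hz : z ∈ CohB1.genLocus Q σ) :
    ∀ j, Function.Bijective (stk (multPow ε σ F j) z)
  | 0 => stk_bijective_of_iso (Iso.refl F) z
  | j + 1 => by
    rw [multPow, stk_comp]
    exact (multPow_bijective F hz j).comp (mult_bijective z ε σ _ hz)

theorem multPow_range (hQ : PicF.IsInvertible Q) (F : X.Modules) (hz : z ∉ CohB1.genLocus Q σ) :
    ∀ j, LinearMap.range (stk (multPow ε σ F j) z) ≤
      maximalIdeal (X.presheaf.stalk z) ^ j • (⊤ : Submodule (X.presheaf.stalk z) (F.presheaf.stalk z))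
  | 0 => by rw [pow_zero, Submodule.one_smul]; exact le_top
  | j + 1 => by
    rw [multPow, stk_comp, LinearMap.range_comp]
    refine (Submodule.map_mono (mult_small z ε σ hQ _ hz)).trans ?_
    rw [Submodule.map_smul'', Submodule.map_top]
    refine (Submodule.smul_mono le_rfl (multPow_range hQ F hz j)).trans ?_
    rw [← Submodule.mul_smul, pow_succ']

end Mult

end Groth.Agent.NegTwistAss
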